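import Groth.Agent.H28Vert.IdealProd
import Groth.Agent.H11Tilde.StalkGen
import Groth.Agent.H17.PullSect
import Groth.Agent.H16Derived.KFlat.FinLocFree
import Groth.Agent.H12Pic.InvDesc.Trivial
import Groth.Agent.H11Ample.Ample

/-!
# Inverse image of an effective Cartier ideal module
-/

set_option autoImplicit false
set_option linter.style.haveILetI false
set_option linter.unusedSectionVars false
set_option backward.isDefEq.respectTransparency.types false

noncomputable section

universe u

open CategoryTheory CategoryTheory.Limits AlgebraicGeometry TopologicalSpace Opposite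

namespace Groth.Agent.H12Pic.CurveFam

variable {C X : Scheme.{u}} (g : C ⟶ X) {I : X.IdealSheafData}

/-- If an effective Cartier ideal pulls back to an effective Cartier ideal, so does its module. -/
theorem nonempty_pullback_idealMod_comap (hI : BlowUp.IsEffCartierIdeal I)
    (hJ : BlowUp.IsEffCartierIdeal (I.comap g)) :
    Nonempty ((Scheme.Modules.pullback g).obj (ClSub.idealMod I) ≅ ClSub.idealMod (I.comap g)) := by
  let P := (Scheme.Modules.pullback g).obj (ClSub.idealMod I)
  let F := (Scheme.Modules.pullback g).map (ClSub.idealModι I)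
  let s := H16Derived.KFlat.Stalk.structurePullbackIso g
  -- a function attached to every section of the inverse image
  let v : ∀ (W : C.Opens), Γ(P, W) → Γ(C, W) := fun W t => s.hom.app W (F.app W t)
  have vsmul : ∀ (W : C.Opens) (r : Γ(C, W)) (t : Γ(P, W)), v W (r • t) = r * v W t := fun W r t => by
    show s.hom.app W (F.app W (r • t)) = r * _
    rw [Scheme.Modules.Hom.app_smul, Scheme.Modules.Hom.app_smul]
    rfl
  have vres : ∀ {W W' : C.Opens} (h : W' ≤ W) (t : Γ(P, W)),
      v W' (P.presheaf.map (homOfLE h).op t) = C.presheaf.map (homOfLE h).op (v W t) := fun {W W'} h t => by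
    show s.hom.app W' (F.app W' _) = _
    rw [H11Tilde.app_map_apply, H11Tilde.app_map_apply]
    rfl
  -- local data
  have hloc : ∀ c : C, ∃ (W : C.Opens) (hW : IsAffineOpen W) (e : Γ(P, W)) (e' : Γ(ClSub.idealMod (I.comap g), W)),
      c ∈ W ∧ H11Tilde.IsGen P e ∧ H11Tilde.IsGen (ClSub.idealMod (I.comap g)) e' ∧
      OmegaSh.idealSect (I.comap g) W e' = v W e := by
    intro c
    obtain ⟨⟨U, hU⟩, hxU, a, -, ha⟩ := hI (g c)
    obtain ⟨e, he⟩ := (H29Blow.mem_ideal_iff_exists_idealSect I hU a).1 (ha ▸ Ideal.mem_span_singleton_self a)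
    obtain ⟨W, hW, hcW, hWU'⟩ := exists_isAffineOpen_mem_and_subset (U := g ⁻¹ᵁ U) (x := c) hxU
    have hWU : W ≤ g ⁻¹ᵁ U := hWU'
    have hgen : H11Tilde.IsGen (ClSub.idealMod I) e := H28Vert.isGen_idealSect hI hU (by rw [he]; exact ha)
    let t := P.presheaf.map (homOfLE hWU).op (OmegaSh.pullSect g (ClSub.idealMod I) U e)
    let w : Γ(C, g ⁻¹ᵁ U) := s.hom.app _ (OmegaSh.pullSect g (Coh.structureModule X) U (H11Ample.one U))
    have hw : IsUnit w := InvDesc.isUnit_of_isGen
      (H11Tilde.IsGen.map_iso s (H11Tilde.IsGen.pullSect g (H11Ample.isGen_one U)))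
    let b : Γ(C, W) := g.appLE U W hWU a * C.presheaf.map (homOfLE hWU).op w
    have hv : v W t = b := by
      show v W (P.presheaf.map (homOfLE hWU).op _) = _
      rw [vres, show b = C.presheaf.map (homOfLE hWU).op (g.app U a * w) by
        rw [map_mul]; rfl]
      refine congrArg (C.presheaf.map _) ?_
      show s.hom.app _ (F.app _ _) = _
      rw [← H17.PullSect.pullSect_natural, show (ClSub.idealModι I).app U e = a • H11Ample.one U from
        he.trans (H11Ample.smul_one_eq a).symm, OmegaSh.pullSect_smul, Scheme.Modules.Hom.app_smul]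
      rfl
    have hideal : (I.comap g).ideal ⟨W, hW⟩ = Ideal.span {b} := by
      rw [H29Blow.ideal_comap I g ⟨U, hU⟩ ⟨W, hW⟩ hWU, ha, Ideal.map_span, Set.image_singleton]
      exact (Ideal.span_singleton_mul_right_unit (hw.map (C.presheaf.map (homOfLE hWU).op).hom) _).symm
    obtain ⟨e', he'⟩ := (H29Blow.mem_ideal_iff_exists_idealSect (I.comap g) hW _).1
      (hideal ▸ Ideal.mem_span_singleton_self b)
    exact ⟨W, hW, t, e', hcW, (H11Tilde.IsGen.pullSect g hgen).res hWU,
      H28Vert.isGen_idealSect hJ hW (by rw [he']; exact hideal), he'.trans hv.symm⟩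
  choose W hW e e' hcW hge hge' hee using hloc
  obtain ⟨ψ, -⟩ := H11Ample.exists_iso_of_gen W (fun c => ⟨c, hcW c⟩) e hge e' hge' fun i j u hu => by
    refine H29Blow.idealSect_injective (I.comap g) _ ?_
    rw [H29Blow.idealSect_res, H29Blow.idealSect_smul, H29Blow.idealSect_res, hee, hee, ← vres, ← vres, hu, vsmul]
  exact ⟨ψ⟩

end Groth.Agent.H12Pic.CurveFam
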