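import Groth.Agent.H19Grp.AlgClosedGeom
import Groth.Agent.H25Theta.Basic
import Groth.Prelude.Def_Pic13

/-!
# Algebraic equivalence to zero is stable under tensor products
-/

set_option autoImplicit false
set_option linter.style.haveILetI false

universe u

open CategoryTheory CategoryTheory.Limits AlgebraicGeometry

namespace Groth.Agent.H12Pic.CurveFam

open Groth.Agent.H25Theta (pb pT pC pI tI)

variable {k : Type u} [Field k] [IsAlgClosed k] {X : Scheme.{u}} [X.Over (Spec (CommRingCat.of k))]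

omit [IsAlgClosed k] in
theorem algEquiv_congr {L L' : X.Modules} (e : L ≅ L') (h : Pic13.IsAlgEquivZero k X L) :
    Pic13.IsAlgEquivZero k X L' := by
  obtain ⟨T, q, h1, h2, h3, M, hM, t, t₀, ht, ht₀, ⟨e₁⟩, e₂⟩ := h
  exact ⟨T, q, h1, h2, h3, M, hM, t, t₀, ht, ht₀, ⟨e₁ ≪≫ e⟩, e₂⟩

omit [IsAlgClosed k] in
theorem algEquiv_structure : Pic13.IsAlgEquivZero k X (Coh.structureModule X) := by
  have hM : PicF.IsInvertible (Coh.structureModule (Pic13.prodK k X (𝟙 (Spec (CommRingCat.of k))))) :=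
    fun y => ⟨⊤, trivial, ⟨Scheme.Modules.restrictUnitIso _⟩⟩
  exact ⟨_, 𝟙 _, inferInstance, inferInstance, inferInstance, _, hM, 𝟙 _, 𝟙 _, Category.comp_id _, Category.comp_id _,
    ⟨PicLoc.pullbackStructureIso _⟩, ⟨PicLoc.pullbackStructureIso _⟩⟩

/-- The tensor product of two modules algebraically equivalent to zero is algebraically equivalent to zero. -/
theorem algEquiv_tensor {L L' : X.Modules} (h : Pic13.IsAlgEquivZero k X L) (h' : Pic13.IsAlgEquivZero k X L') :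
    Pic13.IsAlgEquivZero k X (CohB1.tensorMod L L') := by
  obtain ⟨T, q, hT, hq, hq', M, hM, t, t₀, ht, ht₀, ⟨e₁⟩, ⟨e₂⟩⟩ := h
  obtain ⟨T', q', hT', hr, hr', M', hM', t', t₀', ht', ht₀', ⟨e₁'⟩, ⟨e₂'⟩⟩ := h'
  let π₁ : pullback q q' ⟶ T := pullback.fst q q'
  let π₂ : pullback q q' ⟶ T' := pullback.snd q q'
  let r := π₁ ≫ q
  haveI := H19Grp.geometricallyConnected_of_connectedSpace q
  haveI : ConnectedSpace ↥(pullback q q') := inferInstance
  let m₁ : Pic13.prodK k X r ⟶ Pic13.prodK k X q :=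
    pullback.lift (pullback.fst _ _) (pullback.snd _ _ ≫ π₁) (by rw [Category.assoc]; exact pullback.condition)
  let m₂ : Pic13.prodK k X r ⟶ Pic13.prodK k X q' :=
    pullback.lift (pullback.fst _ _) (pullback.snd _ _ ≫ π₂) (by
      rw [Category.assoc, pullback.condition (f := X ↘ _), show r = π₂ ≫ q' from pullback.condition])
  let N := CohB1.tensorMod (pb m₁ M) (pb m₂ M')
  have hN : PicF.IsInvertible N :=
    H11Ample.isInvertible_tensor (H11Ample.isInvertible_pullback m₁ hM) (H11Ample.isInvertible_pullback m₂ hM')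
  let s : ∀ (a : Spec (CommRingCat.of k) ⟶ T) (b : Spec (CommRingCat.of k) ⟶ T') (_ : a ≫ q = 𝟙 _) (_ : b ≫ q' = 𝟙 _),
      Spec (CommRingCat.of k) ⟶ pullback q q' := fun a b ha hb => pullback.lift a b (ha.trans hb.symm)
  have hs : ∀ a b ha hb, s a b ha hb ≫ r = 𝟙 _ := fun a b ha hb => by
    rw [← Category.assoc]; exact (congrArg (· ≫ q) (pullback.lift_fst _ _ _)).trans ha
  have key : ∀ a b (ha : a ≫ q = 𝟙 _) (hb : b ≫ q' = 𝟙 _),
      Nonempty (Pic13.fibreMod k X r (s a b ha hb) (hs a b ha hb) N ≅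
        CohB1.tensorMod (Pic13.fibreMod k X q a ha M) (Pic13.fibreMod k X q' b hb M')) := by
    intro a b ha hb
    have w₁ : Pic13.sliceAt k X r (s a b ha hb) (hs a b ha hb) ≫ m₁ = Pic13.sliceAt k X q a ha := by
      refine pullback.hom_ext ?_ ?_
      · simp only [Pic13.sliceAt, m₁, Category.assoc, pullback.lift_fst]
      · simp only [Pic13.sliceAt, m₁, π₁, s, Category.assoc, pullback.lift_snd, pullback.lift_snd_assoc,
          pullback.lift_fst]
    have w₂ : Pic13.sliceAt k X r (s a b ha hb) (hs a b ha hb) ≫ m₂ = Pic13.sliceAt k X q' b hb := by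
      refine pullback.hom_ext ?_ ?_
      · simp only [Pic13.sliceAt, m₂, Category.assoc, pullback.lift_fst]
      · simp only [Pic13.sliceAt, m₂, π₂, s, Category.assoc, pullback.lift_snd, pullback.lift_snd_assoc]
    exact ⟨pT _ _ _ ≪≫ tI (pC _ _ w₁ M) (pC _ _ w₂ M')⟩
  obtain ⟨f⟩ := key t t' ht ht'
  obtain ⟨f₀⟩ := key t₀ t₀' ht₀ ht₀'
  exact ⟨_, r, inferInstance, inferInstance, inferInstance, N, hN, s t t' ht ht', s t₀ t₀' ht₀ ht₀',
    hs t t' ht ht', hs t₀ t₀' ht₀ ht₀', ⟨f ≪≫ tI e₁ e₁'⟩,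
    ⟨f₀ ≪≫ tI e₂ e₂' ≪≫ H10Coh.Tw.leftUnitIso _⟩⟩

end Groth.Agent.H12Pic.CurveFam
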