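import Groth.Agent.H12Pic.CurveFam.PointFamily
import Groth.Agent.H12Pic.AlgEquivEuler
import Groth.Agent.H29RR.Choice
import Groth.Agent.H29RR.MonoHom
import Groth.Agent.H29RR.CurveIntegral
import Groth.Agent.H29RR.RiemannRoch

/-!
# Modules of degree zero on a smooth proper curve are algebraically equivalent to zero
-/

set_option autoImplicit false
set_option linter.style.haveILetI false
set_option linter.unusedSectionVars false

noncomputable section

universe u

open CategoryTheory CategoryTheory.Limits AlgebraicGeometry TopologicalSpace Opposite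

namespace Groth.Agent.H12Pic.CurveFam

attribute [local instance 10000] H10Coh.hasSheafifyAb H10Coh.hasWeakSheafifyAb H10Coh.hasExtAb H10Coh.enoughInjAb
attribute [local instance] Curv2.resAlgebra

open Groth.Agent.H25Theta (tI)

variable {k : Type u} [Field k] [IsAlgClosed k] {C : Scheme.{u}} [C.Over (Spec (CommRingCat.of k))]
  [IsProper (C ↘ Spec (CommRingCat.of k))] [SmoothOfRelativeDimension 1 (C ↘ Spec (CommRingCat.of k))]
  [IsIntegral C]

omit [IsAlgClosed k] [IsIntegral C] in
/-- Multiplying a section by a function does not enlarge the locus where it generates. -/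
theorem mem_gen_of_smul {M : C.Modules} (hM : PicF.IsInvertible M) {g : Γ(M, ⊤)} {a : Γ(C, ⊤)} {x : C}
    (h : x ∈ H11Ample.gen M (a • g)) : x ∈ H11Ample.gen M g := by
  have hb := (H11Ample.mem_gen_iff hM _ x).1 h
  rw [H06Mod.germ_smul] at hb
  let m := M.presheaf.germ ⊤ x trivial g
  let a' := C.presheaf.germ ⊤ x trivial a
  obtain ⟨r₀, hr₀⟩ := hb.2 m
  change r₀ • a' • m = m at hr₀
  have hu : a' * r₀ = 1 := by
    refine hb.1 ?_
    show (a' * r₀) • a' • m = (1 : C.presheaf.stalk x) • a' • m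
    rw [mul_smul, hr₀, one_smul]
  refine (H11Ample.mem_gen_iff hM g x).2 ?_
  have hu' : IsUnit r₀ := IsUnit.of_mul_eq_one_right a' hu
  refine (congrArg Function.Bijective (funext fun r => ?_)).mp (hb.comp hu'.unit.mulRight.bijective)
  show (r * r₀) • a' • m = r • m
  rw [mul_smul, hr₀]

/-- A section of `M` vanishing at a point gives sections of the twist down by the point. -/
theorem exists_point_sub (hdim : topologicalKrullDim C = 1) {M : C.Modules} (hM : PicF.IsInvertible M)
    (h0 : 0 < Module.finrank k (Coh.HH C M 0)) (hdeg : 0 < Curv2.deg k C M 1) :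
    ∃ (x : C) (hx : IsClosed ({x} : Set C)), PicF.IsInvertible (ClSub.idealMod (H29RR.ptIdeal x)) ∧
      0 < Module.finrank k (Coh.HH C (CohB1.tensorMod (ClSub.idealMod (H29RR.ptIdeal x)) M) 0) ∧
      Curv2.deg k C (CohB1.tensorMod (ClSub.idealMod (H29RR.ptIdeal x)) M) 1 = Curv2.deg k C M 1 - 1 := by
  haveI := H29RR.isNoetherian_of_proper (k := k) (X := C)
  haveI : Module.Finite k (Coh.HH C M 0) := H29RR.finite_HH M hM 0
  haveI : Nontrivial (Coh.HH C M 0) := Module.nontrivial_of_finrank_pos h0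
  obtain ⟨v₀, hv₀⟩ := exists_ne (0 : Coh.HH C M 0)
  let g := H29RR.sec M v₀
  have hne : (H11Ample.gen M g : Set C)ᶜ.Nonempty := by
    rw [Set.nonempty_compl]
    intro htop
    have hiso : IsIso (H11Tilde.homOfGlobal M g) :=
      H11Tilde.isIso_of_gen _ fun y => by
        have hy : y ∈ H11Ample.gen M g := by rw [← SetLike.mem_coe, htop]; trivial
        exact ⟨H11Ample.gen M g, _, hy, H11Ample.isGen_one _, by
          rw [H11Tilde.homOfGlobal_app]
          have h := H11Ample.isGen_res (H11Ample.isGen_gen g) le_rfl (isUnit_one (M := Γ(C, H11Ample.gen M g)))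
          rw [H10Coh.mres_mres] at h
          exact h⟩
    have := H29RR.deg_congr (k := k) (asIso (H11Tilde.homOfGlobal M g)).symm
    rw [H29RR.deg_structureModule] at this
    omega
  obtain ⟨x, hxg, hx⟩ := (H11Ample.gen M g).isOpen.isClosed_compl.exists_closed_singleton hne
  have hI : PicF.IsInvertible (ClSub.idealMod (H29RR.ptIdeal x)) := by
    haveI := H29RR.isClosedImmersion_pt hx
    have hI' := isEffCartierIdeal_section (C ↘ Spec (CommRingCat.of k))
      (pointOfClosedPoint (C ↘ Spec (CommRingCat.of k)) x hx) (pointOfClosedPoint_comp _ _ _)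
    rw [pointOfClosedPoint, Scheme.Hom.ker_comp_of_isIso] at hI'
    exact H29Blow.isInvertible_of_isEffCartierIdeal _ hI'
  have hIc := H11Ample.isCoh_of_isInvertible hI
  have h1 := H29RR.finrank_residue_eq_one (k := k) hx
  obtain ⟨hle, hge, he⟩ := H29RR.twist_point (k := k) hx hM hIc
  rw [h1] at hge he
  refine ⟨x, hx, hI, ?_, by simp only [H29RR.deg_def]; omega⟩
  by_contra hzero
  have hh1 : Module.finrank k (Coh.HH C M 0) = 1 := by omega
  obtain ⟨g', hg'⟩ := (H29RR.h0_add_one_iff (k := k) hx h1 hM hIc).1 (by omega)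
  obtain ⟨v', rfl⟩ := (H29RR.sec M).surjective g'
  obtain ⟨c, rfl⟩ := exists_smul_eq_of_finrank_eq_one hh1 hv₀ v'
  rw [H29RR.sec_smul] at hg'
  exact hxg (mem_gen_of_smul hM hg')

/-- A module of degree `m` with a nonzero section, twisted down `m` times by a point, is algebraically
equivalent to zero. -/
theorem algEquiv_of_section [ConnectedSpace C] (hdim : topologicalKrullDim C = 1)
    (q : Spec (CommRingCat.of k) ⟶ C) (hq : q ≫ (C ↘ Spec (CommRingCat.of k)) = 𝟙 _) :
    ∀ (m : ℕ) {M : C.Modules}, PicF.IsInvertible M → Curv2.deg k C M 1 = m →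
      0 < Module.finrank k (Coh.HH C M 0) →
      Pic13.IsAlgEquivZero k C (CohB1.tensorMod M (CohB1.tensorPow (ClSub.idealMod q.ker) m)) := by
  intro m
  induction m with
  | zero =>
    intro M hM hd h0
    haveI := H29RR.isNoetherian_of_proper (k := k) (X := C)
    haveI : Module.Finite k (Coh.HH C M 0) := H29RR.finite_HH M hM 0
    haveI : Nontrivial (Coh.HH C M 0) := Module.nontrivial_of_finrank_pos h0
    obtain ⟨g, hg⟩ := H29RR.exists_global_ne_zero M inferInstance
    have hs : H11Tilde.homOfGlobal M g ≠ 0 := fun h => hg (by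
      have h1 := congrArg (fun φ => φ.app ⊤ (H11Ample.one ⊤)) h
      beta_reduce at h1
      rw [H11Tilde.homOfGlobal_app, H10Coh.mres_self, one_smul] at h1
      exact h1)
    haveI := (H29RR.deg_nonneg_of_hom (k := k) hdim.le hM hs).2 (by omega)
    exact algEquiv_congr (asIso (H11Tilde.homOfGlobal M g) ≪≫ (H10Coh.Tw.rightUnitIso M).symm) algEquiv_structure
  | succ m ih =>
    intro M hM hd h0
    obtain ⟨x, hx, hI, h0', hd'⟩ := exists_point_sub hdim hM h0 (by omega)
    let I := ClSub.idealMod (H29RR.ptIdeal x)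
    let Q := ClSub.idealMod q.ker
    have hQ : PicF.IsInvertible Q := H29Blow.isInvertible_of_isEffCartierIdeal _
      (isEffCartierIdeal_section (C ↘ Spec (CommRingCat.of k)) q hq)
    have halg := ih (H11Ample.isInvertible_tensor hI hM) (by rw [hd', hd]; push_cast; ring) h0'
    obtain ⟨N, hN, ⟨eN⟩⟩ := H11Sym.exists_inverse hI
    have hx' : (pointOfClosedPoint (C ↘ Spec (CommRingCat.of k)) x hx).ker = H29RR.ptIdeal x := by
      haveI := H29RR.isClosedImmersion_pt hx
      rw [pointOfClosedPoint, Scheme.Hom.ker_comp_of_isIso]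
    have hpq := algEquiv_point_sub q (pointOfClosedPoint (C ↘ Spec (CommRingCat.of k)) x hx) hq
      (pointOfClosedPoint_comp _ _ _) N hN (eqToIso (by rw [hx']) ≪≫ H10Coh.Tw.commIso I N ≪≫ eN)
    refine algEquiv_congr ?_ (algEquiv_tensor halg hpq)
    -- (I ⊗ M ⊗ Q^m) ⊗ (Q ⊗ N) ≅ M ⊗ (Q^m ⊗ Q)
    let P := CohB1.tensorMod M (CohB1.tensorPow Q m)
    exact tI (H10Coh.Tw.assoc I M (CohB1.tensorPow Q m) ≪≫ H10Coh.Tw.commIso I P) (Iso.refl _) ≪≫
      H10Coh.Tw.assoc P I _ ≪≫
      tI (Iso.refl P) (tI (Iso.refl I) (H10Coh.Tw.commIso Q N) ≪≫ (H10Coh.Tw.assoc I N Q).symm ≪≫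
        tI (H10Coh.Tw.commIso I N ≪≫ eN) (Iso.refl Q) ≪≫ H10Coh.Tw.leftUnitIso Q) ≪≫
      H10Coh.Tw.assoc M (CohB1.tensorPow Q m) Q

/-- A module of degree zero is algebraically equivalent to zero. -/
theorem algEquiv_of_deg_zero [ConnectedSpace C] (hdim : topologicalKrullDim C = 1) {L : C.Modules}
    (hL : PicF.IsInvertible L) (hdeg : Curv2.deg k C L 1 = 0) : Pic13.IsAlgEquivZero k C L := by
  haveI := H29RR.isNoetherian_of_proper (k := k) (X := C)
  haveI : JacobsonSpace C := LocallyOfFiniteType.jacobsonSpace (C ↘ Spec (CommRingCat.of k))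
  obtain ⟨x, -, hx⟩ := nonempty_inter_closedPoints (Z := (Set.univ : Set C)) Set.univ_nonempty
    isOpen_univ.isLocallyClosed
  rw [mem_closedPoints_iff] at hx
  let q := pointOfClosedPoint (C ↘ Spec (CommRingCat.of k)) x hx
  have hq : q ≫ (C ↘ Spec (CommRingCat.of k)) = 𝟙 _ := pointOfClosedPoint_comp _ _ _
  let Q := ClSub.idealMod q.ker
  have hQ : PicF.IsInvertible Q := H29Blow.isInvertible_of_isEffCartierIdeal _
    (isEffCartierIdeal_section (C ↘ Spec (CommRingCat.of k)) q hq)
  obtain ⟨N, hN, ⟨eN⟩⟩ := H11Sym.exists_inverse hQ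
  have hdQ : Curv2.deg k C Q 1 = -1 := by
    haveI := H29RR.isClosedImmersion_pt hx
    have hker : q.ker = H29RR.ptIdeal x := by
      show (pointOfClosedPoint _ x hx).ker = _
      rw [pointOfClosedPoint, Scheme.Hom.ker_comp_of_isIso]
    have h := (H29RR.twist_point (k := k) hx (H11Ample.isInvertible_structureModule (X := C))
      (hker ▸ H11Ample.isCoh_of_isInvertible hQ)).2.2
    rw [H29RR.finrank_residue_eq_one (k := k) hx, ← hker,
      H25Euler.euler_congr (H10Coh.Tw.rightUnitIso Q)] at h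
    simp only [H29RR.deg_def]
    omega
  have hdN : Curv2.deg k C N 1 = 1 := by
    have := H29RR.deg_congr (k := k) eN
    rw [H29RR.deg_tensor hdim.le hN hQ, H29RR.deg_structureModule, hdQ] at this
    omega
  let n := (Curv2.genus k C : ℤ).toNat + 1
  have hdpow : ∀ j : ℕ, Curv2.deg k C (CohB1.tensorPow N j) 1 = j := fun j => by
    induction j with
    | zero => exact H29RR.deg_structureModule
    | succ j ih =>
      show Curv2.deg k C (CohB1.tensorMod _ N) 1 = _
      rw [H29RR.deg_tensor hdim.le (H11Ample.isInvertible_tensorPow hN j) hN, ih, hdN]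
      push_cast; ring
  let M := CohB1.tensorMod L (CohB1.tensorPow N n)
  have hM : PicF.IsInvertible M := H11Ample.isInvertible_tensor hL (H11Ample.isInvertible_tensorPow hN n)
  have hdM : Curv2.deg k C M 1 = n := by
    show Curv2.deg k C (CohB1.tensorMod _ _) 1 = _
    rw [H29RR.deg_tensor hdim.le hL (H11Ample.isInvertible_tensorPow hN n), hdeg, hdpow, zero_add]
  have h0 : 0 < Module.finrank k (Coh.HH C M 0) := by
    have h := H29RR.riemann_roch (k := k) hdim.le M
    rw [hdM] at h
    have : (n : ℤ) = (Curv2.genus k C : ℤ).toNat + 1 := by simp [n]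
    omega
  have halg := algEquiv_of_section hdim q hq n hM hdM h0
  obtain ⟨φ⟩ := H10Coh.Tw.nonempty_tensorPow_inverse eN hN hQ n
  refine algEquiv_congr ?_ halg
  exact H10Coh.Tw.assoc L _ _ ≪≫ tI (Iso.refl L) φ ≪≫ H10Coh.Tw.rightUnitIso L

end Groth.Agent.H12Pic.CurveFam
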