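import Groth.Agent.H12Pic.CurveFam.ComapIdeal
import Groth.Agent.H12Pic.CurveFam.AlgEquivGroup
import Groth.Agent.H27CurveDiv.Split
import Groth.Agent.H27CurveDiv.RelDim
import Groth.Agent.H27CurveDiv.Relative

/-!
# Differences of points of a smooth curve are algebraically equivalent to zero
-/

set_option autoImplicit false
set_option linter.style.haveILetI false
set_option linter.unusedSectionVars false

noncomputable section

universe u

open CategoryTheory CategoryTheory.Limits AlgebraicGeometry

namespace Groth.Agent.H12Pic.CurveFam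

open Groth.Agent.H25Theta (pb pT pC pI tI)

/-- A section of a smooth relative curve is an effective Cartier divisor. -/
theorem isEffCartierIdeal_section {X S : Scheme.{u}} (f : X ⟶ S) [SmoothOfRelativeDimension 1 f] [IsSeparated f]
    (s : S ⟶ X) (hs : s ≫ f = 𝟙 S) : BlowUp.IsEffCartierIdeal s.ker := by
  haveI : IsClosedImmersion (s ≫ f) := by rw [hs]; infer_instance
  haveI : IsClosedImmersion s := IsClosedImmersion.of_comp s f
  haveI : IsIso (s.toImage ≫ s.imageι ≫ f) := by
    rw [← Category.assoc, Scheme.Hom.toImage_imageι, hs]; infer_instance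
  haveI : IsIso (s.imageι ≫ f) := IsIso.of_isIso_comp_left s.toImage _
  haveI : IsIso (s.ker.subschemeι ≫ f) := inferInstanceAs (IsIso (s.imageι ≫ f))
  exact ((H27CurveDiv.cartier_iff f s.ker).2 ⟨inferInstance, inferInstance, inferInstance⟩).1

variable {k : Type u} [Field k] [IsAlgClosed k] {C : Scheme.{u}} [C.Over (Spec (CommRingCat.of k))]
  [IsProper (C ↘ Spec (CommRingCat.of k))] [SmoothOfRelativeDimension 1 (C ↘ Spec (CommRingCat.of k))]

/-- The diagonal ideal restricts to the ideal of each point. -/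
theorem nonempty_fibreMod_diagonal (t : Spec (CommRingCat.of k) ⟶ C)
    (ht : t ≫ (C ↘ Spec (CommRingCat.of k)) = 𝟙 _) :
    Nonempty (Pic13.fibreMod k C (C ↘ Spec (CommRingCat.of k)) t ht
        (ClSub.idealMod (pullback.diagonal (C ↘ Spec (CommRingCat.of k))).ker) ≅ ClSub.idealMod t.ker) := by
  let f := C ↘ Spec (CommRingCat.of k)
  let Δ := pullback.diagonal f
  let g := Pic13.sliceAt k C f t ht
  haveI := smoothOfRelativeDimension_isStableUnderBaseChange.{u} (n := 1)
  haveI : SmoothOfRelativeDimension 1 (pullback.snd f f) :=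
    MorphismProperty.pullback_snd (P := @SmoothOfRelativeDimension 1) f f inferInstance
  have hg1 : g ≫ pullback.fst f f = 𝟙 C := pullback.lift_fst _ _ _
  have hsq : IsPullback g f (pullback.snd f f) t := by
    refine IsPullback.of_right ?_ (pullback.lift_snd _ _ _) (IsPullback.of_hasPullback f f).flip.flip
    rw [ht, show g ≫ pullback.fst f f = 𝟙 C from hg1]
    exact IsPullback.of_horiz_isIso ⟨by simp [f]⟩
  have h2 : t ≫ g = t ≫ Δ := by
    refine pullback.hom_ext ?_ ?_
    · rw [Category.assoc, Category.assoc, hg1, pullback.diagonal_fst]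
    · rw [Category.assoc, Category.assoc, show g ≫ pullback.snd f f = f ≫ t from pullback.lift_snd _ _ _,
        pullback.diagonal_snd, reassoc_of% ht]
      exact (Category.comp_id _).symm
  have houter : IsPullback t (t ≫ f) (Δ ≫ pullback.snd f f) t := by
    rw [ht, pullback.diagonal_snd]
    exact IsPullback.of_vert_isIso ⟨by simp⟩
  have hsq' : IsPullback t t Δ g := IsPullback.of_bot houter h2.symm hsq
  haveI : IsClosedImmersion Δ := inferInstanceAs (IsClosedImmersion (pullback.diagonal f))
  have hker : Δ.ker.comap g = t.ker := by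
    rw [← Scheme.IdealSheafData.ker_fst_of_isClosedImmersion, ← hsq'.flip.isoPullback_hom_fst,
      Scheme.Hom.ker_comp_of_isIso]
  have hI : BlowUp.IsEffCartierIdeal Δ.ker :=
    isEffCartierIdeal_section (pullback.snd f f) Δ (pullback.diagonal_snd f)
  have hJ : BlowUp.IsEffCartierIdeal (Δ.ker.comap g) := hker ▸ isEffCartierIdeal_section f t ht
  obtain ⟨e⟩ := nonempty_pullback_idealMod_comap g hI hJ
  exact ⟨e ≪≫ eqToIso (congrArg ClSub.idealMod hker)⟩

/-- The difference of two points is algebraically equivalent to zero. -/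
theorem algEquiv_point_sub [ConnectedSpace C] (p q : Spec (CommRingCat.of k) ⟶ C)
    (hp : p ≫ (C ↘ Spec (CommRingCat.of k)) = 𝟙 _) (hq : q ≫ (C ↘ Spec (CommRingCat.of k)) = 𝟙 _)
    (N : C.Modules) (hN : PicF.IsInvertible N)
    (eN : CohB1.tensorMod (ClSub.idealMod q.ker) N ≅ Coh.structureModule C) :
    Pic13.IsAlgEquivZero k C (CohB1.tensorMod (ClSub.idealMod p.ker) N) := by
  let f := C ↘ Spec (CommRingCat.of k)
  haveI := smoothOfRelativeDimension_isStableUnderBaseChange.{u} (n := 1)
  haveI : SmoothOfRelativeDimension 1 (pullback.snd f f) :=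
    MorphismProperty.pullback_snd (P := @SmoothOfRelativeDimension 1) f f inferInstance
  haveI : IsClosedImmersion (pullback.diagonal f) := inferInstance
  have hI : PicF.IsInvertible (ClSub.idealMod (pullback.diagonal f).ker) :=
    H29Blow.isInvertible_of_isEffCartierIdeal _
      (isEffCartierIdeal_section (pullback.snd f f) _ (pullback.diagonal_snd f))
  let M := CohB1.tensorMod (ClSub.idealMod (pullback.diagonal f).ker) (pb (pullback.fst f f) N)
  have key : ∀ (t : Spec (CommRingCat.of k) ⟶ C) (ht : t ≫ f = 𝟙 _),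
      Nonempty (Pic13.fibreMod k C f t ht M ≅ CohB1.tensorMod (ClSub.idealMod t.ker) N) := fun t ht => by
    obtain ⟨e⟩ := nonempty_fibreMod_diagonal t ht
    exact ⟨pT _ _ _ ≪≫ tI e (pC (Pic13.sliceAt k C f t ht) (pullback.fst f f) (h := 𝟙 C) (pullback.lift_fst _ _ _) N ≪≫
      pI (𝟙 C) rfl N)⟩
  obtain ⟨e₁⟩ := key p hp
  obtain ⟨e₂⟩ := key q hq
  exact ⟨C, f, inferInstance, inferInstance, inferInstance, M,
    H11Ample.isInvertible_tensor hI (H11Ample.isInvertible_pullback _ hN), p, q, hp, hq, ⟨e₁⟩, ⟨e₂ ≪≫ eN⟩⟩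

end Groth.Agent.H12Pic.CurveFam
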